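import Mathlib

/-!
Gram determinants of quadratic forms on `F^n` and the classification of nondegenerate quadratic forms
over finite fields of odd order by the square class of the determinant.
-/

set_option autoImplicit false

namespace CfsgLib.FormDiscr

open QuadraticMap

variable {F : Type*} [Field F]

/-- The Gram matrix of the polar form on the standard basis. -/
def gram {ι : Type*} [DecidableEq ι] (Q : QuadraticForm F (ι → F)) : Matrix ι ι F :=
  Matrix.of fun i j => QuadraticMap.polar ⇑Q (Pi.single i 1) (Pi.single j 1)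

theorem gram_eq {ι : Type*} [Fintype ι] [DecidableEq ι] (Q : QuadraticForm F (ι → F)) :
    gram Q = LinearMap.toMatrix₂' F Q.polarBilin := by
  ext i j
  simp [gram, LinearMap.toMatrix₂'_apply]

theorem gram_det_ne_zero {ι : Type*} [Fintype ι] [DecidableEq ι] (Q : QuadraticForm F (ι → F))
    (h : Q.polarBilin.Nondegenerate) : (gram Q).det ≠ 0 := by
  rw [gram_eq, ← Matrix.nondegenerate_iff_det_ne_zero]
  exact h.toMatrix₂'

theorem gram_det_comp {ι : Type*} [Fintype ι] [DecidableEq ι] (Q₁ Q₂ : QuadraticForm F (ι → F))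
    (g : (ι → F) →ₗ[F] (ι → F)) (c : F) (h : ∀ v, Q₂ (g v) = c * Q₁ v) :
    LinearMap.det g ^ 2 * (gram Q₂).det = c ^ Fintype.card ι * (gram Q₁).det := by
  have hb : Q₂.polarBilin.compl₁₂ g g = c • Q₁.polarBilin := by
    refine LinearMap.ext₂ fun x y => ?_
    simp [QuadraticMap.polar, ← map_add, h, mul_sub]
  have := congrArg (fun B => (LinearMap.toMatrix₂' F B).det) hb
  simp only [LinearMap.toMatrix₂'_compl₁₂, map_smul, Matrix.det_mul, Matrix.det_transpose,
    Matrix.det_smul, ← gram_eq, LinearMap.det_toMatrix'] at this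
  linear_combination this

theorem gram_det_diag {ι : Type*} [Fintype ι] [DecidableEq ι] (w : ι → F) :
    (gram (weightedSumSquares F w)).det = 2 ^ Fintype.card ι * ∏ i, w i := by
  have : gram (weightedSumSquares F w) = Matrix.diagonal fun i => 2 * w i := by
    ext i j
    simp only [gram, Matrix.of_apply, QuadraticMap.polar, weightedSumSquares_apply, Matrix.diagonal_apply,
      smul_eq_mul, Pi.add_apply, ← Finset.sum_sub_distrib]
    rcases eq_or_ne i j with rfl | hij
    · rw [if_pos rfl, Finset.sum_eq_single i] <;> simp +contextual [Pi.single_apply]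
      ring
    · rw [if_neg hij]
      refine Finset.sum_eq_zero fun k _ => ?_
      rcases eq_or_ne k i with rfl | hk
      · simp [Pi.single_apply, hij]
      · simp [Pi.single_apply, hk]
  rw [this, Matrix.det_diagonal, Finset.prod_mul_distrib]
  simp

/-- A binary diagonal form represents one. -/
theorem exists_rep_one [Fintype F] (h2 : (2 : F) ≠ 0) {a b : F} (ha : a ≠ 0) (hb : b ≠ 0) :
    ∃ s t : F, a * s ^ 2 + b * t ^ 2 = 1 := by
  have hodd : Fintype.card F % 2 = 1 :=
    FiniteField.odd_card_of_char_ne_two fun h =>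
      h2 (by have := ringChar.Nat.cast_ringChar (R := F); rw [h] at this; exact_mod_cast this)
  obtain ⟨s, t, hst⟩ := FiniteField.exists_root_sum_quadratic
    (f := Polynomial.C a * Polynomial.X ^ 2 - Polynomial.C 1) (g := Polynomial.C b * Polynomial.X ^ 2)
    (by
      rw [Polynomial.degree_sub_eq_left_of_degree_lt] <;> rw [Polynomial.degree_C_mul_X_pow _ ha]
      · rfl
      · exact (Polynomial.degree_C_le).trans_lt (by norm_num))
    (Polynomial.degree_C_mul_X_pow _ hb) hodd
  refine ⟨s, t, ?_⟩
  simp only [Polynomial.eval_sub, Polynomial.eval_mul, Polynomial.eval_pow, Polynomial.eval_C,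
    Polynomial.eval_X] at hst
  linear_combination hst

section merge

variable {ι : Type*} [Fintype ι] [DecidableEq ι]

/-- Mixing two coordinates. -/
def mix (i j : ι) (p q r u : F) : (ι → F) →ₗ[F] (ι → F) where
  toFun x := fun k => if k = i then p * x i + q * x j else if k = j then r * x i + u * x j else x k
  map_add' x y := by ext k; simp only [Pi.add_apply]; split_ifs <;> ring
  map_smul' c x := by ext k; simp only [Pi.smul_apply, smul_eq_mul, RingHom.id_apply]; split_ifs <;> ring

theorem mix_mix {i j : ι} (hij : i ≠ j) {p q r u : F} (hd : p * u - q * r = 1) (x : ι → F) :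
    mix i j u (-q) (-r) p (mix i j p q r u x) = x := by
  ext k
  simp only [mix, LinearMap.coe_mk, AddHom.coe_mk, if_true, if_neg hij.symm]
  split_ifs with h1 h2
  · subst h1; linear_combination x k * hd
  · subst h2; linear_combination x k * hd
  · rfl

/-- The linear equivalence mixing two coordinates by a matrix of determinant one. -/
def mixEquiv {i j : ι} (hij : i ≠ j) (p q r u : F) (hd : p * u - q * r = 1) : (ι → F) ≃ₗ[F] (ι → F) where
  __ := mix i j p q r u
  invFun := mix i j u (-q) (-r) p
  left_inv := mix_mix hij hd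
  right_inv x := by
    have := mix_mix (p := u) (q := -q) (r := -r) (u := p) hij (by linear_combination hd) x
    rwa [neg_neg, neg_neg] at this

theorem merge_two [Fintype F] (h2 : (2 : F) ≠ 0) (w : ι → F) {i j : ι} (hij : i ≠ j) (hi : w i ≠ 0)
    (hj : w j ≠ 0) :
    Equivalent (weightedSumSquares F (Function.update (Function.update w i 1) j (w i * w j)))
      (weightedSumSquares F w) := by
  obtain ⟨s, t, hst⟩ := exists_rep_one h2 hi hj
  refine ⟨⟨mixEquiv hij s (-(w j * t)) t (w i * s) (by linear_combination hst), fun x => ?_⟩⟩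
  show weightedSumSquares F w (mix i j s (-(w j * t)) t (w i * s) x) = _
  rw [weightedSumSquares_apply, weightedSumSquares_apply,
    ← Finset.add_sum_erase _ _ (Finset.mem_univ i),
    ← Finset.add_sum_erase _ _ (Finset.mem_erase.2 ⟨hij.symm, Finset.mem_univ j⟩)]
  conv_rhs => rw [← Finset.add_sum_erase _ _ (Finset.mem_univ i),
    ← Finset.add_sum_erase _ _ (Finset.mem_erase.2 ⟨hij.symm, Finset.mem_univ j⟩)]
  rw [← add_assoc, ← add_assoc]
  congr 1
  · simp [mix, hij, hij.symm]
    linear_combination (x i * x i + w i * w j * (x j * x j)) * hst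
  · refine Finset.sum_congr rfl fun k hk => ?_
    simp only [Finset.mem_erase] at hk
    simp [mix, hk.1, hk.2.1]

theorem merge_set [Fintype F] (h2 : (2 : F) ≠ 0) (w : ι → F) (hw : ∀ k, w k ≠ 0) (o : ι) (S : Finset ι)
    (ho : o ∉ S) :
    Equivalent (weightedSumSquares F fun k => if k ∈ S then (1 : F) else if k = o then w o * ∏ l ∈ S, w l else w k)
      (weightedSumSquares F w) := by
  induction S using Finset.induction_on with
  | empty =>
    convert QuadraticMap.Equivalent.refl (weightedSumSquares F w) using 3 with k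
    by_cases h : k = o <;> simp [h]
  | insert i S hiS ih =>
    rw [Finset.mem_insert, not_or] at ho
    refine Equivalent.trans ?_ (ih ho.2)
    set w' : ι → F := fun k => if k ∈ S then (1 : F) else if k = o then w o * ∏ l ∈ S, w l else w k
    have h1 : w' i = w i := by simp [w', hiS, Ne.symm ho.1]
    have h3 : w' o = w o * ∏ l ∈ S, w l := by simp [w', ho.2]
    have hm := merge_two h2 w' (Ne.symm ho.1) (h1 ▸ hw i)
      (h3 ▸ mul_ne_zero (hw o) (Finset.prod_ne_zero_iff.2 fun l _ => hw l))
    convert hm using 3 with k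
    rcases eq_or_ne k o with rfl | hk
    · simp [ho.1, ho.2, hiS, h1, h3, Finset.prod_insert hiS]
      ring
    · rcases eq_or_ne k i with rfl | hk'
      · simp [hk]
      · simp [hk, hk', w']

end merge

/-- Normal form: all weights one except the last. -/
theorem exists_normal_form [Fintype F] (h2 : (2 : F) ≠ 0) {n : ℕ} (Q : QuadraticForm F (Fin (n + 1) → F))
    (hQ : Q.polarBilin.Nondegenerate) :
    ∃ d : F, Equivalent Q (weightedSumSquares F fun k : Fin (n + 1) => if k = Fin.last n then d else 1) := by
  classical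
  letI : Invertible (2 : F) := invertibleOfNonzero h2
  have hsep : (QuadraticMap.associated (R := F) Q).SeparatingLeft := by
    intro x hx
    refine hQ.1 x fun y => ?_
    have := hx y
    rw [← QuadraticMap.two_nsmul_associated F Q, LinearMap.smul_apply, LinearMap.smul_apply]
    exact (congrArg (fun z : F => 2 • z) this).trans (smul_zero _)
  obtain ⟨w₀, hw₀⟩ := QuadraticForm.equivalent_weightedSumSquares_units_of_nondegenerate' Q hsep
  have hfin : Module.finrank F (Fin (n + 1) → F) = n + 1 := Module.finrank_fin_fun F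
  revert w₀ hw₀
  generalize Module.finrank F (Fin (n + 1) → F) = m at hfin ⊢
  subst hfin
  intro w₀ hw₀
  set w : Fin (n + 1) → F := fun k => (w₀ k : F)
  have hQw : Equivalent Q (weightedSumSquares F w) := by
    have : weightedSumSquares F w = weightedSumSquares F w₀ := by
      ext x
      simp [weightedSumSquares_apply, w, Units.smul_def]
    rw [this]
    exact hw₀
  refine ⟨w (Fin.last n) * ∏ l ∈ Finset.univ.erase (Fin.last n), w l, hQw.trans (Equivalent.symm ?_)⟩
  convert merge_set h2 w (fun k => Units.ne_zero _) (Fin.last n) (Finset.univ.erase (Fin.last n))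
    (by simp) using 3 with k
  by_cases hk : k = Fin.last n <;> simp [hk]

/-- Classification by the square class of the Gram determinant. -/
theorem equivalent_iff [Fintype F] (h2 : (2 : F) ≠ 0) {n : ℕ} (Q₁ Q₂ : QuadraticForm F (Fin n → F))
    (h₁ : Q₁.polarBilin.Nondegenerate) (h₂ : Q₂.polarBilin.Nondegenerate) :
    (∃ g : (Fin n → F) ≃ₗ[F] (Fin n → F), ∀ v, Q₂ (g v) = Q₁ v) ↔
      IsSquare ((gram Q₁).det * (gram Q₂).det) := by
  constructor
  · rintro ⟨g, hg⟩
    have := gram_det_comp Q₁ Q₂ (g : (Fin n → F) →ₗ[F] (Fin n → F)) 1 (by simpa using hg)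
    rw [one_pow, one_mul] at this
    refine ⟨LinearMap.det (g : (Fin n → F) →ₗ[F] (Fin n → F)) * (gram Q₂).det, ?_⟩
    rw [← this]; ring
  · intro hsq
    cases n with
    | zero => exact ⟨LinearEquiv.refl _ _, fun v => by
        rw [LinearEquiv.refl_apply, Subsingleton.elim v 0, map_zero, map_zero]⟩
    | succ n =>
      obtain ⟨d₁, e₁⟩ := exists_normal_form h2 Q₁ h₁
      obtain ⟨d₂, e₂⟩ := exists_normal_form h2 Q₂ h₂
      have hprod : ∀ d : F, ∏ k : Fin (n + 1), (if k = Fin.last n then d else 1) = d := fun d => by simp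
      have key : ∀ (Q : QuadraticForm F (Fin (n + 1) → F)) (d : F), Q.polarBilin.Nondegenerate →
          Equivalent Q (weightedSumSquares F fun k : Fin (n + 1) => if k = Fin.last n then d else 1) →
          ∃ c : F, c ≠ 0 ∧ (gram Q).det = c ^ 2 * (2 ^ (n + 1) * d) := by
        rintro Q d hQ ⟨e⟩
        have := gram_det_comp Q _ (e.toLinearEquiv : (Fin (n + 1) → F) →ₗ[F] _) 1
          (fun v => by rw [one_mul]; exact e.map_app v)
        rw [gram_det_diag, hprod, Fintype.card_fin, one_pow, one_mul] at this
        refine ⟨_, ?_, this.symm⟩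
        exact (e.toLinearEquiv.isUnit_det').ne_zero
      obtain ⟨c₁, hc₁, k₁⟩ := key Q₁ d₁ h₁ e₁
      obtain ⟨c₂, hc₂, k₂⟩ := key Q₂ d₂ h₂ e₂
      have hd₁ : d₁ ≠ 0 := fun h => gram_det_ne_zero Q₁ h₁ (by rw [k₁, h]; simp)
      have hd₂ : d₂ ≠ 0 := fun h => gram_det_ne_zero Q₂ h₂ (by rw [k₂, h]; simp)
      obtain ⟨z, hz⟩ := hsq
      rw [k₁, k₂] at hz
      set D := c₁ * c₂ * 2 ^ (n + 1) * d₂ with hD
      have hD0 : D ≠ 0 := by simp [hD, hc₁, hc₂, h2, hd₂]
      have hd : d₁ = d₂ * (z / D) ^ 2 := by
        rw [div_pow, mul_div_assoc', eq_div_iff (pow_ne_zero _ hD0), hD]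
        linear_combination d₂ * hz
      have hzD : z / D ≠ 0 := fun h => hd₁ (by rw [hd, h]; simp)
      have e₃ : Equivalent (weightedSumSquares F fun k : Fin (n + 1) => if k = Fin.last n then d₁ else 1)
          (weightedSumSquares F fun k : Fin (n + 1) => if k = Fin.last n then d₂ else 1) :=
        ⟨QuadraticForm.isometryEquivWeightedSumSquaresWeightedSumSquares
          (fun k => if k = Fin.last n then Units.mk0 _ hzD else 1) fun k => by
            by_cases hk : k = Fin.last n <;> simp [hk, hd]⟩
      obtain ⟨e⟩ := (e₁.trans e₃).trans e₂.symm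
      exact ⟨e.toLinearEquiv, e.map_app⟩

end CfsgLib.FormDiscr
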